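import Cfsg.Agent.H816.IMEig

/-!
# The values of the constituents of a multiplicity free permutation character (helper693)

`exists_values` : under the hypotheses of `Cfsg.Agent.H816.IMEig.Col.exists_degree`, the irreducible character `χ` of
degree `f` has the values `χ g = f / #X * ∑ x, ω (c x (g • x))`.
`exists_rational`: when `ω` has rational values, `χ` is rational-valued, in particular real-valued.
-/

set_option autoImplicit false

namespace Cfsg.Agent.H693.Sch

open Cfsg Cfsg.Agent.Characters.Core Cfsg.Agent.H816.IMEig Cfsg.Agent.H816.IMEig.Col Module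
open scoped BigOperators

universe u v

variable {G : Type u} [Group G] {X : Type v} [MulAction G X] {ι : Type} [Fintype ι] [DecidableEq ι]

theorem character_eq [Finite G] [Fintype X] [DecidableEq X] {c : X → X → ι} {o : ι} {x₀ z₀ : X} {t : ι → ι → ℕ}
    {θ : ℂ} {ω : ι → ℂ} (h : Col G X ι c o) (ht : ∀ u w, tt c x₀ z₀ u w = t u w)
    (hE : Eig (c x₀ z₀) o t θ ω) (hS : SS t ω ≠ 0) (g : G) :
    (h.sub ω).toRepresentation.character g = (SS t ω)⁻¹ * ∑ x, ω (c x (g • x)) := by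
  set P : (X → ℂ) →ₗ[ℂ] (X → ℂ) := (SS t ω)⁻¹ • EE c ω with hP
  have hPm : ∀ f, P f ∈ WW c ω := fun f => by
    rw [hP, LinearMap.smul_apply]
    exact Submodule.smul_mem _ _ (EE_mem f)
  have hPf : ∀ f ∈ WW c ω, P f = f := fun f hf => by
    rw [hP, LinearMap.smul_apply, h.EE_of_mem ht hE hf, smul_smul, inv_mul_cancel₀ hS, one_smul]
  have hmem : ∀ f, (prep G X g ∘ₗ P) f ∈ (h.sub ω).toSubmodule := fun f =>
    (h.sub ω).apply_mem_toSubmodule g (hPm f)
  have h1 := LinearMap.trace_restrict_eq_of_forall_mem (h.sub ω).toSubmodule (prep G X g ∘ₗ P) hmem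
  have h2 : (prep G X g ∘ₗ P).restrict (fun x _ => hmem x) = (h.sub ω).toRepresentation g := by
    refine LinearMap.ext fun v => Subtype.ext ?_
    show prep G X g (P v.1) = prep G X g v.1
    rw [hPf v.1 v.2]
  have h3 : (h.sub ω).toRepresentation.character g = LinearMap.trace ℂ (X → ℂ) (prep G X g ∘ₗ P) := by
    rw [← h1, h2]
    rfl
  rw [h3, LinearMap.trace_eq_matrix_trace ℂ (Pi.basisFun ℂ X), Matrix.trace, Finset.mul_sum]
  refine Finset.sum_congr rfl fun x _ => ?_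
  rw [Matrix.diag_apply, LinearMap.toMatrix_apply, Pi.basisFun_apply, Pi.basisFun_repr]
  have h4 : (prep G X g ∘ₗ P) (Pi.single x 1) = (SS t ω)⁻¹ • ee c ω (g • x) := by
    rw [LinearMap.comp_apply, hP, LinearMap.smul_apply, EE_single, map_smul, h.prep_ee]
  rw [h4]
  rfl

/-- **The values of the constituent belonging to a spherical function.** -/
theorem exists_values [Finite G] [Fintype X] {c : X → X → ι} {o : ι} (h : Col G X ι c o) {x₀ z₀ : X} {t : ι → ι → ℕ}
    {θ : ℂ} {ω : ι → ℂ} (ht : ∀ u w, Nat.card {y // c x₀ y = u ∧ c z₀ y = w} = t u w)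
    (hE : Eig (c x₀ z₀) o t θ ω)
    {f : ℕ} (hf : (f : ℂ) * ∑ u, ((∑ w, t u w : ℕ) : ℂ) * ω u ^ 2 = (Nat.card X : ℂ)) :
    ∃ χ : G → ℂ, IsIrrCharacter G χ ∧ χ 1 = f ∧
      ∀ g : G, χ g = (f : ℂ) / (Nat.card X : ℂ) * ∑ x, ω (c x (g • x)) := by
  classical
  have hX : (Nat.card X : ℂ) ≠ 0 := by
    have : Nonempty X := ⟨x₀⟩
    exact_mod_cast (Nat.card_pos (α := X)).ne'
  have hS : SS t ω ≠ 0 := by
    intro h0
    unfold SS at h0
    rw [h0, mul_zero] at hf
    exact hX hf.symm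
  refine ⟨_, isIrrCharacter_of_rep _ (h.irr ht hE), ?_, ?_⟩
  · rw [Representation.char_one]
    have h1 := h.finrank_mul ht hE hS
    rw [← Nat.card_eq_fintype_card, ← hf] at h1
    exact mul_right_cancel₀ hS h1
  · intro g
    rw [character_eq h ht hE hS g]
    congr 1
    have h1 : (f : ℂ) * SS t ω = (Nat.card X : ℂ) := hf
    rw [← h1]
    have hf0 : (f : ℂ) ≠ 0 := by
      intro h0
      rw [h0, zero_mul] at h1
      exact hX h1.symm
    field_simp

/-- **Rational spherical functions give rational characters.** -/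
theorem exists_rational [Finite G] [Finite X] {c : X → X → ι} {o : ι} (h : Col G X ι c o) {x₀ z₀ : X} {t : ι → ι → ℕ}
    {θ : ℂ} {ω : ι → ℂ} (ht : ∀ u w, Nat.card {y // c x₀ y = u ∧ c z₀ y = w} = t u w)
    (hE : Eig (c x₀ z₀) o t θ ω) (hω : ∀ u, ∃ r : ℚ, ω u = (r : ℂ))
    {f : ℕ} (hf : (f : ℂ) * ∑ u, ((∑ w, t u w : ℕ) : ℂ) * ω u ^ 2 = (Nat.card X : ℂ)) :
    ∃ χ : G → ℂ, IsIrrCharacter G χ ∧ χ 1 = f ∧ ∀ g : G, ∃ r : ℚ, χ g = (r : ℂ) := by
  classical
  have := Fintype.ofFinite X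
  obtain ⟨χ, h1, h2, h3⟩ := exists_values h ht hE hf
  refine ⟨χ, h1, h2, fun g => ?_⟩
  choose r hr using hω
  refine ⟨(f : ℚ) / (Nat.card X : ℚ) * ∑ x, r (c x (g • x)), ?_⟩
  rw [h3]
  push_cast
  congr 1
  exact Finset.sum_congr rfl fun x _ => hr _

end Cfsg.Agent.H693.Sch
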